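import Cfsg.Agent.H162.CC.Tools3
import Cfsg.Agent.H921.SporCo
import Cfsg.Agent.H792.Sp.ConwayFive
import Cfsg.Agent.KFacts.MM.OutC_m3
import Cfsg.Agent.SporadicA.MathieuRecog
import Cfsg.Agent.H729.M22Deg
import Cfsg.Agent.S1582
import Cfsg.Agent.S1580
import Cfsg.Agent.S0283
import Cfsg.Agent.S0280
import Cfsg.Agent.FastGrp
import Cfsg.Agent.Prune
set_option linter.all false
prune_inst 0x7f00000000000000000000000000000000000000000000000000000000000000000000000000000000000000000000000000000000000000000000000000000000000000000000000000000000000000003fffffffffffffffffffffffffffbeffbdffffffff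
open scoped Cfsg.Agent.FastGrp

-- part: H990/CC/Gen
section
/-!
# Commutator closed sets (S3828): rows from embedded simple groups (helper990)
-/

set_option autoImplicit false

namespace Cfsg.Agent.H990.CCG

open Subgroup Cfsg Cfsg.Agent.Lib.Cores Cfsg.Agent.H162.CCR

variable {p : ℕ} [hp : Fact p.Prime]

/-- primes not dividing the order -/
theorem crow_of_not_dvd {G : Type*} [Group G] [Finite G] (h : ¬ p ∣ Nat.card G) : CRow p G := by
  intro C hC c hc
  obtain ⟨k, hk⟩ := hC.pel c hc
  by_contra hc1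
  have hk0 : k ≠ 0 := by
    rintro rfl
    rw [pow_zero, orderOf_eq_one_iff] at hk
    exact hc1 hk
  exact h ((dvd_pow_self p hk0).trans (hk ▸ _root_.orderOf_dvd_natCard c))

/-- a proper simple subgroup of index prime to `p`, given by an injection -/
theorem crow_of_hom {K H : Type*} [Group K] [Finite K] [Group H] [Finite H]
    [hs : IsSimpleGroup H] (hna : ¬ IsMulCommutative H) (f : H →* K) (hf : Function.Injective f)
    (hlt : Nat.card H < Nat.card K) (hi : ¬ p ∣ Nat.card K / Nat.card H) : CRow p K := by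
  have hc : Nat.card f.range = Nat.card H := (Nat.card_congr (MonoidHom.ofInjective hf).toEquiv).symm
  have hO : pCore p f.range = ⊥ := by
    rw [eq_bot_iff]
    intro x hx
    have h1 := pCore_of_equiv (MonoidHom.ofInjective hf).symm hx
    rw [pCore_eq_bot_of_simple hna p, mem_bot] at h1
    rw [mem_bot]
    exact (MonoidHom.ofInjective hf).symm.injective (h1.trans (map_one _).symm)
  have hne : f.range ≠ ⊤ := by
    intro h1
    rw [h1, Subgroup.card_top] at hc
    omega
  have hix : ¬ p ∣ f.range.index := by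
    have h := f.range.card_mul_index
    rw [hc] at h
    rw [← h, Nat.mul_div_cancel_left _ Nat.card_pos] at hi
    exact hi
  intro C hC
  exact hC.eq_one_of_index hne hix hO

/-- a group whose order is not a prime is not simple and commutative -/
theorem not_comm_of_card {H : Type*} [Group H] [Finite H] [hs : IsSimpleGroup H] (hc : ¬ (Nat.card H).Prime) :
    ¬ IsMulCommutative H := by
  intro h
  exact hc (by
    letI : CommGroup H := { (inferInstance : Group H) with mul_comm := h.1.1 }
    exact IsSimpleGroup.prime_card)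

end Cfsg.Agent.H990.CCG

namespace Cfsg.Agent.H990.CCG

open Subgroup Cfsg Cfsg.Agent.Lib.Cores Cfsg.Agent.H162.CCR

section Four

variable {G : Type*} [Group G] [Finite G] {C : Set G}

/-- A normal `p`-subgroup of an overgroup of a Sylow subgroup lies in the Sylow subgroup. -/
theorem le_sylow_of_normalizes {p : ℕ} [hp : Fact p.Prime] (P : Sylow p G) {A : Subgroup G} (hA : IsPGroup p A)
    (hn : (P : Subgroup G) ≤ normalizer (A : Set G)) : A ≤ (P : Subgroup G) := by
  have h1 : IsPGroup p ((P : Subgroup G) ⊔ A : Subgroup G) := P.2.to_sup_of_normal_right' hA hn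
  have h2 := P.3 h1 le_sup_left
  rw [← h2]
  exact le_sup_right

/-- **The centralizer `C(z)` whose abelian normal 2-subgroups lie in `⟨u⟩`, `u² = z`.** -/
theorem crow_two_of_four (hO : pCore 2 G = ⊥) (hZ : center G = ⊥) {z u : G} (zz : z * z = 1) (z1 : z ≠ 1)
    (uu : u * u = z) (hodd : ¬ 2 ∣ (centralizer ({z} : Set G)).index)
    (hA : ∀ A : Subgroup G, A ≤ centralizer ({z} : Set G) → centralizer ({z} : Set G) ≤ normalizer (A : Set G) →
      IsPGroup 2 A → (∀ x ∈ A, ∀ y ∈ A, x * y = y * x) → ∀ x ∈ A, x = 1 ∨ x = z ∨ x = u ∨ x = u⁻¹)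
    {x : G} (hx1 : x ≠ 1) (hxu : x * u = u * x)
    (hcard : ¬ Nat.card (centralizer ({x} : Set G)) ∣ Nat.card (centralizer ({z} : Set G))) : CRow 2 G := by
  have h2 : Fact (Nat.Prime 2) := ⟨Nat.prime_two⟩
  intro C h c hc
  by_contra hc1
  have hH : centralizer ({z} : Set G) ≠ ⊤ := by
    intro h2
    apply z1
    have h3 : z ∈ center G := by
      rw [mem_center_iff]
      intro g
      have h4 : g ∈ centralizer ({z} : Set G) := by rw [h2]; trivial
      exact mem_centralizer_singleton_iff.1 h4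
    rw [hZ] at h3
    simpa using h3
  obtain ⟨P, hPH⟩ := exists_sylow_le (p := 2) hodd
  have hHM := h.sylow_le_M hO hc hc1 P hH hPH
  have hM := h.M_ne_top' hO hc hc1 P
  have hMi : ¬ 2 ∣ (M C (P : Subgroup G)).index := fun hd => hodd (hd.trans (index_dvd_of_le hHM))
  obtain ⟨A, -, hAn, hAp, hAc, e, he, he1, heA⟩ := h.exists_abelian hO hc hc1 hM hMi
  have hAP : A ≤ (P : Subgroup G) := le_sylow_of_normalizes P hAp ((h.P_le_M P).trans hAn)
  have key := hA A (hAP.trans hPH) (hHM.trans hAn) hAp hAc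
  -- `M` centralizes `z`
  have hee : ∀ a ∈ A, a * a ≠ 1 → a * a = z := by
    intro a ha h1
    rcases key a ha with rfl | rfl | rfl | rfl
    · exact absurd (mul_one _) h1
    · exact absurd zz h1
    · exact uu
    · rw [← mul_inv_rev, uu]
      exact inv_eq_of_mul_eq_one_left zz
  have he2 : e * e ≠ 1 := fun h1 => he1 (h.sq_ne_one hO he h1)
  have hMz : M C (P : Subgroup G) ≤ centralizer ({z} : Set G) := by
    intro g hg
    have h3 : g * e * g⁻¹ ∈ A := (mem_normalizer_iff.1 (hAn hg) e).1 heA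
    have h4 : g * e * g⁻¹ * (g * e * g⁻¹) = g * (e * e) * g⁻¹ := by group
    have h5 : g * (e * e) * g⁻¹ = z := by
      rw [← h4]
      apply hee _ h3
      rw [h4]
      intro h5
      apply he2
      have h6 : e * e = g⁻¹ * (g * (e * e) * g⁻¹) * g := by group
      rw [h6, h5]; group
    rw [hee e heA he2] at h5
    rw [mem_centralizer_singleton_iff]
    exact mul_inv_eq_iff_eq_mul.1 h5
  -- `x` commutes with `e`
  have hex : e * x = x * e := by
    rcases key e heA with h1 | h1 | h1 | h1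
    · exact absurd h1 he1
    · exact absurd (h1 ▸ zz) he2
    · rw [h1]; exact hxu.symm
    · rw [h1]
      have : Commute x u := hxu
      exact this.inv_right.symm
  obtain ⟨-, h6, -⟩ := h.centralizer_of_comm hO hZ he he1 hx1 hex (hAP heA)
  exact hcard (card_dvd_of_le (h6.trans hMz))

end Four

end Cfsg.Agent.H990.CCG

namespace Cfsg.Agent.H990.CCG

/-- peel off one prime power -/
theorem eq_or_dvd {p a k m : ℕ} (hp : p.Prime) (ha : a.Prime) (h : p ∣ a ^ k * m) : p = a ∨ p ∣ m := by
  rcases (hp.dvd_mul).1 h with h | h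
  · exact Or.inl ((Nat.prime_dvd_prime_iff_eq hp ha).1 (hp.dvd_of_dvd_pow h))
  · exact Or.inr h

end Cfsg.Agent.H990.CCG
end

-- part: H990/CC/HSMcL
section
/-!
# Commutator closed sets (S3828): `HS` and `McL` (helper990)
-/

set_option autoImplicit false

namespace Cfsg.Agent.H990.CCHS

open Subgroup Cfsg Cfsg.Agent.Lib.Cores Cfsg.Agent.H162.CCR Cfsg.Agent.H990.CCG
open Cfsg.Agent.H792.SpU35 (card_HS card_McL exists_field card_psu exists_tri exists_tri_mcl sq_V hs_pair mem_HS)

theorem card_M22 : Nat.card Spor.M22 = 443520 := Cfsg.Agent.H729.M22Deg.card_M22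

instance fin_HS : Finite Spor.HS := Nat.finite_of_card_ne_zero (by rw [card_HS]; norm_num)
instance fin_McL : Finite Spor.McL := Nat.finite_of_card_ne_zero (by rw [card_McL]; norm_num)
instance fin_M22 : Finite Spor.M22 := Nat.finite_of_card_ne_zero (by rw [card_M22]; norm_num)

variable {p : ℕ} [hp : Fact p.Prime]

/-- `M22` in `HS` and `McL` -/
theorem crow_of_M22 {K : Type*} [Group K] [Finite K] (h : ∃ f : Spor.M22 →* K, Function.Injective f)
    (hlt : 443520 < Nat.card K) (hi : ¬ p ∣ Nat.card K / 443520) : CRow p K := by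
  obtain ⟨f, hf⟩ := h
  have hs : IsSimpleGroup Spor.M22 := Cfsg.Agent.SporadicA.MathieuRecog.simple_M22
  exact crow_of_hom (not_comm_of_card (by rw [card_M22]; norm_num)) f hf (by rw [card_M22]; exact hlt)
    (by rw [card_M22]; exact hi)

/-- `U3(5)` in `HS` -/
theorem five_HS : CRow 5 Spor.HS := by
  have h5 : Fact (Nat.Prime 5) := ⟨Nat.prime_five⟩
  obtain ⟨x, T⟩ := exists_tri sq_V hs_pair.1 hs_pair.2
  obtain ⟨F, _, _, hF⟩ := exists_field
  obtain ⟨e⟩ := T.exists_hom hF
  set W := MulAction.stabilizer Co0 Spor.leechV ⊓ MulAction.stabilizer Co0 (-(Spor.leechV + Spor.leechU')) ⊓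
    MulAction.stabilizer Co0 x with hW
  have hmem : ∀ g : W, ((g : Co0) : Equiv.Perm leechLattice) ∈ Spor.HS := fun g => mem_HS g.2.1.1 g.2.1.2
  let f : W →* Spor.HS := (Co0.subtype.comp W.subtype).codRestrict Spor.HS hmem
  have hf : Function.Injective f := by
    intro a b h
    have h1 := congrArg Subtype.val h
    exact Subtype.ext (Subtype.ext h1)
  have hcard := card_psu hF
  have hfin : Finite (PSU 3 F 5) := Nat.finite_of_card_ne_zero (by rw [hcard]; norm_num)
  have hs : IsSimpleGroup (PSU 3 F 5) := S0283.result (by rw [hF]; norm_num) 3 (by norm_num) (by norm_num)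
  refine crow_of_hom (not_comm_of_card (by rw [hcard]; norm_num)) (f.comp e.toMonoidHom) ?_
    (by rw [hcard, card_HS]; norm_num) (by rw [hcard, card_HS]; norm_num)
  rw [MonoidHom.coe_comp]
  exact hf.comp e.injective

/-- `U3(5)` in `McL` -/
theorem five_McL : CRow 5 Spor.McL := by
  have h5 : Fact (Nat.Prime 5) := ⟨Nat.prime_five⟩
  obtain ⟨v, T⟩ := exists_tri_mcl
  obtain ⟨F, _, _, hF⟩ := exists_field
  obtain ⟨e⟩ := T.exists_hom hF
  set W := MulAction.stabilizer Co0 v ⊓ MulAction.stabilizer Co0 Spor.leechV ⊓ MulAction.stabilizer Co0 Spor.leechU with hW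
  have hmem : ∀ g : W, ((g : Co0) : Equiv.Perm leechLattice) ∈ Spor.McL := fun g => ⟨⟨(g : Co0).2, g.2.1.2⟩, g.2.2⟩
  let f : W →* Spor.McL := (Co0.subtype.comp W.subtype).codRestrict Spor.McL hmem
  have hf : Function.Injective f := by
    intro a b h
    have h1 := congrArg Subtype.val h
    exact Subtype.ext (Subtype.ext h1)
  have hcard := card_psu hF
  have hfin : Finite (PSU 3 F 5) := Nat.finite_of_card_ne_zero (by rw [hcard]; norm_num)
  have hs : IsSimpleGroup (PSU 3 F 5) := S0283.result (by rw [hF]; norm_num) 3 (by norm_num) (by norm_num)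
  refine crow_of_hom (not_comm_of_card (by rw [hcard]; norm_num)) (f.comp e.toMonoidHom) ?_
    (by rw [hcard, card_McL]; norm_num) (by rw [hcard, card_McL]; norm_num)
  rw [MonoidHom.coe_comp]
  exact hf.comp e.injective

/-- the field with nine elements -/
theorem exists_field9 : ∃ (F : Type) (_ : Field F) (_ : Fintype F), Fintype.card F = 9 := by
  have : Fact (Nat.Prime 3) := ⟨Nat.prime_three⟩
  have := Fintype.ofFinite (GaloisField 3 2)
  refine ⟨GaloisField 3 2, inferInstance, this, ?_⟩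
  rw [← Nat.card_eq_fintype_card, GaloisField.card 3 2 (by norm_num)]
  norm_num

theorem card_psu9 {F : Type} [Field F] [Fintype F] (hF : Fintype.card F = 9) : Nat.card (PSU 4 F 3) = 3265920 := by
  have h := Cfsg.Agent.S0280.result (F := F) (q := 3) (by rw [hF]; norm_num) 4 (by norm_num)
  norm_num only [Finset.prod_range_succ, Nat.even_iff, _root_.Finset.range_one, _root_.Finset.prod_singleton, _root_.ite_true, _root_.ite_false] at h
  omega

/-- the vectors `(-5, -1 ^ 23)`, `-(4, 4, 0 ^ 22)` -/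
theorem pair : sqNorm ((-Spor.leechU : leechLattice) : GolayPt → ℤ) = 32 ∧
    sqNorm ((Spor.leechV - (-Spor.leechU : leechLattice)) : GolayPt → ℤ) = 32 := by
  constructor
  · unfold sqNorm
    rw [Fintype.sum_option]
    decide
  · unfold sqNorm
    rw [Fintype.sum_option]
    decide

theorem hV : sqNorm (Spor.leechV : GolayPt → ℤ) = 48 := by
  unfold sqNorm
  rw [Fintype.sum_option]
  decide

/-- `U4(3)` in `McL` -/
theorem three_McL : CRow 3 Spor.McL := by
  have h3 : Fact (Nat.Prime 3) := ⟨Nat.prime_three⟩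
  obtain ⟨F, _, _, hF⟩ := exists_field9
  have hn := (Cfsg.Agent.S1580.result Spor.leechV (-Spor.leechU) hV pair).1
  obtain ⟨x, hx⟩ := Set.nonempty_of_ncard_ne_zero (by rw [hn]; norm_num)
  obtain ⟨e⟩ := Cfsg.Agent.S1582.result Spor.leechV (-Spor.leechU) x hV pair hx F hF
  set W := MulAction.stabilizer Co0 Spor.leechV ⊓ MulAction.stabilizer Co0 (-Spor.leechU) ⊓ MulAction.stabilizer Co0 x with hW
  have hmem : ∀ g : W, ((g : Co0) : Equiv.Perm leechLattice) ∈ Spor.McL := by
    intro g
    have h1 : (g : Co0) • Spor.leechV = Spor.leechV := g.2.1.1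
    have h2 : (g : Co0) • (-Spor.leechU) = -Spor.leechU := g.2.1.2
    rw [Cfsg.Agent.SporadicStructure.Co0Base.co0_smul_neg, neg_inj] at h2
    exact ⟨⟨(g : Co0).2, h1⟩, h2⟩
  let f : W →* Spor.McL := (Co0.subtype.comp W.subtype).codRestrict Spor.McL hmem
  have hf : Function.Injective f := by
    intro a b h
    have h1 := congrArg Subtype.val h
    exact Subtype.ext (Subtype.ext h1)
  have hcard := card_psu9 hF
  have hfin : Finite (PSU 4 F 3) := Nat.finite_of_card_ne_zero (by rw [hcard]; norm_num)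
  have hs : IsSimpleGroup (PSU 4 F 3) := S0283.result (by rw [hF]; norm_num) 4 (by norm_num) (by norm_num)
  refine crow_of_hom (not_comm_of_card (by rw [hcard]; norm_num)) (f.comp e.symm.toMonoidHom) ?_
    (by rw [hcard, card_McL]; norm_num) (by rw [hcard, card_McL]; norm_num)
  rw [MonoidHom.coe_comp]
  exact hf.comp e.symm.injective

/-- `HS`, `p = 2` -/
theorem two_HS {L : Type*} [Group L] [hs : IsSimpleGroup L] (D : Cfsg.Agent.KFacts.HS.Mod L) : CRow 2 L := by
  have h2 : Fact (Nat.Prime 2) := ⟨Nat.prime_two⟩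
  have hfin : Finite L := D.finite
  have hcardL := D.card
  have hna : ¬ IsMulCommutative L := not_comm_of_card (by rw [hcardL]; norm_num)
  have hZ : center L = ⊥ := by
    rcases hs.eq_bot_or_eq_top_of_normal (center L) inferInstance with h | h
    · exact h
    · exact absurd ⟨⟨fun a b => ((mem_center_iff.1 (h ▸ mem_top a : a ∈ center L)) b).symm⟩⟩ hna
  have hidx : (centralizer ({D.z} : Set L)).index = 5775 := by
    have h1 := (centralizer ({D.z} : Set L)).card_mul_index
    rw [D.card_centralizer, D.card] at h1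
    omega
  -- an involution of class 2B in `P`
  obtain ⟨c, hc⟩ := D.k0
  set x := c * (D.k⁻¹ * D.z * D.k * D.u) * c⁻¹ with hx
  have hs0 : ∃ d : L, D.s0 = d * (D.k⁻¹ * D.z * D.k * D.u) * d⁻¹ := by
    rcases D.inv2 D.s0 D.s0_sq D.s0_ne with ⟨d, hd⟩ | h
    · exfalso
      have h1 : D.B6.map (MulAut.conj d⁻¹).toMonoidHom ≤ centralizer ({D.z} : Set L) := by
        rintro _ ⟨b, hb, rfl⟩
        rw [mem_centralizer_singleton_iff]
        have h2 := D.s0_comm hb
        rw [hd] at h2
        show d⁻¹ * b * d⁻¹⁻¹ * D.z = D.z * (d⁻¹ * b * d⁻¹⁻¹)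
        have e1 : d⁻¹ * b * d⁻¹⁻¹ * D.z = d⁻¹ * (b * (d * D.z * d⁻¹)) * d := by group
        have e2 : D.z * (d⁻¹ * b * d⁻¹⁻¹) = d⁻¹ * ((d * D.z * d⁻¹) * b) * d := by group
        rw [e1, e2, h2]
      have h3 := card_dvd_of_le h1
      have h4 : Nat.card (D.B6.map (MulAut.conj d⁻¹).toMonoidHom) = Nat.card D.B6 :=
        (Nat.card_congr (D.B6.equivMapOfInjective _ (MulAut.conj d⁻¹).injective).toEquiv).symm
      rw [h4, D.card_B6, D.card_centralizer] at h3
      revert h3; norm_num
    · exact h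
  obtain ⟨d, hd⟩ := hs0
  have hxs : x = (c * d⁻¹) * D.s0 * (c * d⁻¹)⁻¹ := by rw [hx, hd]; group
  have hcx : 360 ∣ Nat.card (centralizer ({x} : Set L)) := by
    have h1 : D.B6.map (MulAut.conj (c * d⁻¹)).toMonoidHom ≤ centralizer ({x} : Set L) := by
      rintro _ ⟨b, hb, rfl⟩
      rw [mem_centralizer_singleton_iff]
      have h2 := D.s0_comm hb
      show (c * d⁻¹) * b * (c * d⁻¹)⁻¹ * x = x * ((c * d⁻¹) * b * (c * d⁻¹)⁻¹)
      have e1 : (c * d⁻¹) * b * (c * d⁻¹)⁻¹ * x = (c * d⁻¹) * (b * D.s0) * (c * d⁻¹)⁻¹ := by rw [hxs]; group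
      have e2 : x * ((c * d⁻¹) * b * (c * d⁻¹)⁻¹) = (c * d⁻¹) * (D.s0 * b) * (c * d⁻¹)⁻¹ := by rw [hxs]; group
      rw [e1, e2, h2]
    have h3 := card_dvd_of_le h1
    have h4 : Nat.card (D.B6.map (MulAut.conj (c * d⁻¹)).toMonoidHom) = Nat.card D.B6 :=
      (Nat.card_congr (D.B6.equivMapOfInjective _ (MulAut.conj (c * d⁻¹)).injective).toEquiv).symm
    rwa [h4, D.card_B6] at h3
  refine crow_two_of_four (pCore_eq_bot_of_simple hna 2) hZ D.zz D.z1 D.uu (by rw [hidx]; decide) ?_ (x := x) ?_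
    ((D.memP x).1 hc) ?_
  · intro A hA hAn hAp hAc
    have hAn' : ∀ x ∈ D.P, ∀ c ∈ A, x * c * x⁻¹ ∈ A := fun x hx c hc =>
      (mem_normalizer_iff.1 (hAn (D.P_le hx)) c).1 hc
    have hAR := D.core A hA hAp hAn'
    rcases D.subs A hAR hAn' with h | h
    · exact h
    · -- `R` is not abelian
      exfalso
      have h1 : ∀ r ∈ D.R, r = 1 ∨ r = D.z ∨ r = D.u ∨ r = D.u⁻¹ := fun r hr =>
        D.cR r (D.RP hr) fun s hs => hAc r (h ▸ hr) s (h ▸ hs)
      classical
      have h3 : (D.R : Set L) ⊆ (({1, D.z, D.u, D.u⁻¹} : Finset L) : Set L) := by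
        intro r hr
        rcases h1 r hr with h | h | h | h <;> simp only [h, _root_.Finset.coe_insert, _root_.Finset.coe_singleton, _root_.Set.mem_insert_iff, _root_.Set.mem_singleton_iff, _root_.one_eq_inv, _root_.true_or, _root_.or_true, _root_.inv_eq_one]
      have h4 : Nat.card D.R ≤ 4 := by
        have h5 := Set.ncard_le_ncard h3 (Finset.finite_toSet _)
        rw [Set.ncard_coe_finset] at h5
        calc Nat.card D.R = (D.R : Set L).ncard := rfl
          _ ≤ _ := h5
          _ ≤ 4 := Finset.card_le_four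
      rw [D.cardR] at h4
      omega
  · intro h1
    rw [h1] at hxs
    apply D.s0_ne
    have : D.s0 = (c * d⁻¹)⁻¹ * ((c * d⁻¹) * D.s0 * (c * d⁻¹)⁻¹) * (c * d⁻¹) := by group
    rw [this, ← hxs]; group
  · rw [D.card_centralizer]
    intro h1
    have h3 := hcx.trans h1
    revert h3; norm_num

theorem crow_hs {G : Type*} [Group G] [Finite G] [IsSimpleGroup G] (h : Spor.IsoHS G) (p : ℕ) [hp : Fact p.Prime] :
    CRow p G := by
  obtain ⟨D⟩ := Cfsg.Agent.KFacts.HS.exists_mod h
  obtain ⟨e⟩ := h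
  have hcard : Nat.card G = 44352000 := by rw [Nat.card_congr e.toEquiv, card_HS]
  by_cases hd : p ∣ Nat.card G
  swap
  · exact crow_of_not_dvd hd
  have hM : ¬ p ∣ 100 → CRow p G := fun h => CRow.of_equiv e (crow_of_M22 Cfsg.Agent.H921.Spor.Co.exists_HS
    (by rw [card_HS]; norm_num) (by rw [card_HS]; norm_num; exact h))
  rw [hcard, show 44352000 = 2 ^ 9 * (3 ^ 2 * (5 ^ 3 * (7 ^ 1 * (11 ^ 1 * 1)))) by norm_num] at hd
  rcases eq_or_dvd hp.out Nat.prime_two hd with rfl | hd
  · exact two_HS D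
  rcases eq_or_dvd hp.out Nat.prime_three hd with rfl | hd
  · exact hM (by norm_num)
  rcases eq_or_dvd hp.out Nat.prime_five hd with rfl | hd
  · exact CRow.of_equiv e five_HS
  rcases eq_or_dvd hp.out (by norm_num) hd with rfl | hd
  · exact hM (by norm_num)
  rcases eq_or_dvd hp.out (by norm_num) hd with rfl | hd
  · exact hM (by norm_num)
  exact absurd (Nat.dvd_one.1 hd) hp.out.ne_one

theorem crow_mcl {G : Type*} [Group G] [Finite G] [IsSimpleGroup G] (h : Spor.IsoMcL G) (p : ℕ) [hp : Fact p.Prime] :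
    CRow p G := by
  obtain ⟨e⟩ := h
  have hcard : Nat.card G = 898128000 := by rw [Nat.card_congr e.toEquiv, card_McL]
  by_cases hd : p ∣ Nat.card G
  swap
  · exact crow_of_not_dvd hd
  have hM : ¬ p ∣ 2025 → CRow p G := fun h => CRow.of_equiv e (crow_of_M22 Cfsg.Agent.H921.Spor.Co.exists_McL
    (by rw [card_McL]; norm_num) (by rw [card_McL]; norm_num; exact h))
  rw [hcard, show 898128000 = 2 ^ 7 * (3 ^ 6 * (5 ^ 3 * (7 ^ 1 * (11 ^ 1 * 1)))) by norm_num] at hd
  rcases eq_or_dvd hp.out Nat.prime_two hd with rfl | hd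
  · exact hM (by norm_num)
  rcases eq_or_dvd hp.out Nat.prime_three hd with rfl | hd
  · exact CRow.of_equiv e three_McL
  rcases eq_or_dvd hp.out Nat.prime_five hd with rfl | hd
  · exact CRow.of_equiv e five_McL
  rcases eq_or_dvd hp.out (by norm_num) hd with rfl | hd
  · exact hM (by norm_num)
  rcases eq_or_dvd hp.out (by norm_num) hd with rfl | hd
  · exact hM (by norm_num)
  exact absurd (Nat.dvd_one.1 hd) hp.out.ne_one

end Cfsg.Agent.H990.CCHS
end
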